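import Groth.Agent.FinDescent.Basic
import Groth.Agent.MLMod.FlatNil

/-!
Descent of flatness along finite maps with Noetherian base.
-/

set_option autoImplicit false
set_option linter.style.haveILetI false

universe u

open TensorProduct

namespace Groth.Agent.FinDescent

/-- A finite torsion-free extension of a domain is free up to a nonzero factor. -/
theorem exists_factor (R T : Type u) [CommRing R] [IsDomain R] [CommRing T] [IsDomain T] [Algebra R T]
    [Module.Finite R T] (hinj : Function.Injective (algebraMap R T)) :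
    ∃ (f : R) (n : ℕ) (π : T →ₗ[R] R) (ρ : T →ₗ[R] Fin n → R) (ι : (Fin n → R) →ₗ[R] T),
      f ≠ 0 ∧ π 1 = f ∧ ι.comp ρ = f • LinearMap.id := by
  classical
  haveI : FaithfulSMul R T := (faithfulSMul_iff_algebraMap_injective R T).2 hinj
  haveI : Module.IsTorsionFree R T := inferInstance
  obtain ⟨s, hs⟩ := (inferInstance : Module.Finite R T).fg_top
  obtain ⟨b, hb, hbmax⟩ := exists_maximal_linearIndepOn R (fun x : s => (x : T))
  obtain ⟨n, ⟨e⟩⟩ := Finite.exists_equiv_fin b
  let w : Fin n → T := fun i => ((e.symm i : s) : T)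
  have hli : LinearIndependent R w := hb.comp _ e.symm.injective
  let W := Submodule.span R (Set.range w)
  have hW : ∀ x ∈ s, ∃ c : R, c ≠ 0 ∧ c • x ∈ W := by
    intro x hx
    have hle : (fun y : s => (y : T)) '' b ⊆ W := by
      rintro _ ⟨y, hy, rfl⟩
      exact Submodule.subset_span ⟨e ⟨y, hy⟩, by simp [w]⟩
    by_cases h : (⟨x, hx⟩ : s) ∈ b
    · exact ⟨1, one_ne_zero, by rw [one_smul]; exact hle ⟨_, h, rfl⟩⟩
    · obtain ⟨c, hc, hcx⟩ := hbmax ⟨x, hx⟩ h
      exact ⟨c, hc, Submodule.span_le.2 hle hcx⟩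
  choose c hc hcW using hW
  let c₀ : R := ∏ x : s, c x.1 x.2
  have hc₀ : c₀ ≠ 0 := Finset.prod_ne_zero_iff.2 fun x _ => hc x.1 x.2
  have hall : ∀ t : T, c₀ • t ∈ W := by
    intro t
    have ht : t ∈ W.comap (LinearMap.lsmul R T c₀) := by
      refine (hs ▸ Submodule.span_le.2 fun x hx => ?_ : (⊤ : Submodule R T) ≤ _) trivial
      obtain ⟨d, hd⟩ : c x hx ∣ c₀ := Finset.dvd_prod_of_mem (fun y : s => c y.1 y.2) (Finset.mem_univ ⟨x, hx⟩)
      change c₀ • x ∈ W
      rw [hd, mul_comm, mul_smul]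
      exact W.smul_mem _ (hcW x hx)
    exact ht
  let B := Module.Basis.span hli
  let ρ : T →ₗ[R] Fin n → R := B.equivFun.toLinearMap.comp ((LinearMap.lsmul R T c₀).codRestrict W hall)
  let ι : (Fin n → R) →ₗ[R] T := W.subtype.comp B.equivFun.symm.toLinearMap
  have hιρ : ι.comp ρ = c₀ • LinearMap.id := LinearMap.ext fun t => by
    change ((B.equivFun.symm (B.equivFun ⟨c₀ • t, hall t⟩) : W) : T) = c₀ • t
    rw [LinearEquiv.symm_apply_apply]
  have h1 : ρ 1 ≠ 0 := fun h => by
    have := LinearMap.congr_fun hιρ 1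
    rw [LinearMap.comp_apply, h, map_zero, LinearMap.smul_apply, LinearMap.id_apply] at this
    exact smul_ne_zero hc₀ one_ne_zero this.symm
  obtain ⟨j, hj⟩ := Function.ne_iff.1 h1
  refine ⟨c₀ * ρ 1 j, n, c₀ • ((LinearMap.proj j).comp ρ), ρ, (ρ 1 j) • ι, mul_ne_zero hc₀ hj, rfl, ?_⟩
  rw [LinearMap.smul_comp, hιρ, smul_smul, mul_comm]

/-- The domain step. -/
theorem flat_domain_step (R T : Type u) [CommRing R] [IsDomain R] [CommRing T] [IsDomain T] [Algebra R T]
    [Module.Finite R T] (hinj : Function.Injective (algebraMap R T)) (M : Type u) [AddCommGroup M] [Module R M]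
    [Module.Flat T (T ⊗[R] M)]
    (hyp : ∀ (T' : Type u) [CommRing T'] [Algebra R T'] [Module.Finite R T'],
      RingHom.ker (algebraMap R T') ≠ ⊥ → Module.Flat T' (T' ⊗[R] M) →
      Module.Flat (R ⧸ RingHom.ker (algebraMap R T')) ((R ⧸ RingHom.ker (algebraMap R T')) ⊗[R] M)) :
    Module.Flat R M := by
  classical
  obtain ⟨f, n, π, ρ, ι, hf, hπ, hιρ⟩ := exists_factor R T hinj
  let a : Ideal T := Ideal.span {algebraMap R T f ^ 2}
  let T' := T ⧸ a
  let J := RingHom.ker (algebraMap R T')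
  have hJ : ∀ x ∈ J, x ∈ Ideal.span {f} := fun x hx => by
    change algebraMap R T' x = 0 at hx
    rw [IsScalarTower.algebraMap_apply R T T', Ideal.Quotient.algebraMap_eq, Ideal.Quotient.eq_zero_iff_mem,
      Ideal.mem_span_singleton'] at hx
    obtain ⟨s, hs⟩ := hx
    have h1 : π ((f ^ 2) • s) = π (x • (1 : T)) := by
      congr 1
      rw [Algebra.smul_def, Algebra.smul_def, mul_one, map_pow, ← hs, mul_comm]
    rw [map_smul, map_smul, hπ, smul_eq_mul, smul_eq_mul] at h1
    exact Ideal.mem_span_singleton'.2 ⟨π s, mul_left_cancel₀ hf (by linear_combination h1)⟩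
  haveI hflat' : Module.Flat T' (T' ⊗[R] M) := flat_change R T T' M inferInstance
  have hJ0 : J ≠ ⊥ := by
    refine Submodule.ne_bot_iff _ |>.2 ⟨f ^ 2, ?_, pow_ne_zero 2 hf⟩
    change algebraMap R T' (f ^ 2) = 0
    rw [IsScalarTower.algebraMap_apply R T T', Ideal.Quotient.algebraMap_eq, Ideal.Quotient.eq_zero_iff_mem, map_pow]
    exact Ideal.mem_span_singleton_self _
  haveI hMJ : Module.Flat (R ⧸ J) ((R ⧸ J) ⊗[R] M) := hyp T' hJ0 hflat'
  haveI : Module.Flat (R ⧸ Ideal.span {f}) ((R ⧸ Ideal.span {f}) ⊗[R] M) := by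
    letI : Algebra (R ⧸ J) (R ⧸ Ideal.span {f}) := (Ideal.Quotient.factor hJ).toAlgebra
    haveI : IsScalarTower R (R ⧸ J) (R ⧸ Ideal.span {f}) := IsScalarTower.of_algebraMap_eq fun _ => rfl
    exact flat_change R (R ⧸ J) _ M hMJ
  -- elements vanishing in `T ⊗ M` are killed by `f`
  have hkill : ∀ m : M, (1 : T) ⊗ₜ[R] m = 0 → f • m = 0 := fun m hm => by
    have := congrArg (fun z => TensorProduct.lid R M (π.rTensor M z)) hm
    simpa [hπ] using this
  -- multiplication by `f` is injective on `T ⊗ M`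
  have hreg : ∀ z : T ⊗[R] M, f • z = 0 → z = 0 := fun z hz => by
    rw [← algebraMap_smul T] at hz
    exact (smul_eq_zero.1 hz).resolve_left fun h => hf (hinj (h.trans (map_zero _).symm))
  -- the kernel of `M → T ⊗ M` lies in `f M`
  have hdiv : ∀ m : M, (1 : T) ⊗ₜ[R] m = 0 → ∃ y, f • y = m := fun m hm => by
    letI : Algebra (R ⧸ J) T' := (RingHom.kerLift (algebraMap R T')).toAlgebra
    haveI : IsScalarTower R (R ⧸ J) T' := IsScalarTower.of_algebraMap_eq fun _ => rfl
    have hi : Function.Injective (((Algebra.linearMap (R ⧸ J) T').restrictScalars R).rTensor M) :=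
      injective_rTensor R (R ⧸ J) M (Algebra.linearMap (R ⧸ J) T') (RingHom.kerLift_injective _)
    have h1 : (1 : R ⧸ J) ⊗ₜ[R] m = 0 := by
      apply hi
      rw [map_zero, LinearMap.rTensor_tmul]
      change (algebraMap (R ⧸ J) T' 1) ⊗ₜ[R] m = 0
      rw [map_one, ← map_one (algebraMap T T')]
      have := congrArg (((Ideal.Quotient.mkₐ R a).toLinearMap).rTensor M) hm
      rwa [LinearMap.rTensor_tmul, map_zero] at this
    have h2 : m ∈ J • (⊤ : Submodule R M) := by
      have := congrArg (TensorProduct.quotTensorEquivQuotSMul M J) h1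
      rw [map_zero, ← map_one (Ideal.Quotient.mk J), TensorProduct.quotTensorEquivQuotSMul_mk_tmul, one_smul,
        Submodule.Quotient.mk_eq_zero] at this
      exact this
    have h3 := Submodule.smul_mono (show J ≤ Ideal.span {f} from hJ) le_rfl h2
    rw [Submodule.ideal_span_singleton_smul, Submodule.mem_smul_pointwise_iff_exists] at h3
    obtain ⟨y, -, hy⟩ := h3
    exact ⟨y, hy⟩
  have hM : ∀ m : M, f • m = 0 → m = 0 := fun m hm => by
    have h1 : (1 : T) ⊗ₜ[R] m = 0 := hreg _ (by rw [← TensorProduct.tmul_smul, hm, TensorProduct.tmul_zero])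
    obtain ⟨y, rfl⟩ := hdiv m h1
    rw [TensorProduct.tmul_smul] at h1
    exact hkill y (hreg _ h1)
  refine Module.Flat.iff_rTensor_injective.2 fun b hb => ?_
  haveI : Module.Finite R b := Module.Finite.iff_fg.2 hb
  have hreg2 : ∀ z : b ⊗[R] M, f • z = 0 → z = 0 := eq_zero_of_smul_tensor R f M hM b fun x hx =>
    Subtype.ext ((mul_eq_zero.1 (show f * (x : R) = 0 from congrArg Subtype.val hx)).resolve_left hf)
  rw [← LinearMap.ker_eq_bot, Submodule.eq_bot_iff]
  intro x hx
  rw [LinearMap.mem_ker] at hx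
  let μ : T ⊗[R] b →ₗ[T] T ⊗[R] R := b.subtype.baseChange T
  -- multiplication by `f` kills the kernel of `T ⊗ b → T`
  let m2 : T ⊗[R] b →ₗ[T] T ⊗[R] b := LinearMap.lsmul T (T ⊗[R] b) (algebraMap R T f)
  have hμ : LinearMap.ker μ ≤ LinearMap.ker m2 := fun z hz => by
    rw [LinearMap.mem_ker] at hz ⊢
    change algebraMap R T f • z = 0
    rw [algebraMap_smul]
    have h1 : ρ.rTensor b z = 0 := by
      apply Module.Flat.lTensor_preserves_injective_linearMap b.subtype (M := Fin n → R) Subtype.val_injective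
      rw [map_zero, ← LinearMap.comp_apply, LinearMap.lTensor_comp_rTensor, ← LinearMap.rTensor_comp_lTensor,
        LinearMap.comp_apply]
      rw [show b.subtype.lTensor T z = μ z from rfl, hz, map_zero]
    have := congrArg (ι.rTensor b) h1
    rwa [← LinearMap.rTensor_comp_apply, hιρ, LinearMap.rTensor_smul, LinearMap.rTensor_id, map_zero] at this
  let h : T ⊗[R] b ⧸ LinearMap.ker μ →ₗ[T] T ⊗[R] b := Submodule.liftQ _ m2 hμ
  let μ' : T ⊗[R] b ⧸ LinearMap.ker μ →ₗ[T] T ⊗[R] R := Submodule.liftQ _ μ le_rfl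
  have hμ' : Function.Injective μ' := LinearMap.ker_eq_bot.1 (Submodule.ker_liftQ_eq_bot _ _ _ le_rfl)
  let j : b →ₗ[R] T ⊗[R] b := TensorProduct.mk R T b 1
  let q := (LinearMap.ker μ).mkQ.restrictScalars R
  have h1 : (q.comp j).rTensor M x = 0 := by
    apply injective_rTensor R T M μ' hμ'
    rw [map_zero, ← LinearMap.rTensor_comp_apply,
      show (μ'.restrictScalars R).comp (q.comp j) = (TensorProduct.mk R T R 1).comp b.subtype from rfl,
      LinearMap.rTensor_comp_apply, hx, map_zero]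
  let π' : T ⊗[R] b →ₗ[R] b := (TensorProduct.lid R b).toLinearMap.comp (π.rTensor b)
  have key : (π'.comp ((h.restrictScalars R).comp (q.comp j))) = (f * f) • LinearMap.id := by
    refine LinearMap.ext fun y => ?_
    change TensorProduct.lid R b (π.rTensor b (algebraMap R T f • ((1 : T) ⊗ₜ[R] y))) = (f * f) • y
    rw [algebraMap_smul, map_smul, map_smul, LinearMap.rTensor_tmul, TensorProduct.lid_tmul, hπ, smul_smul]
  have h2 : (f * f) • x = 0 := by
    have := congrArg (fun z => π'.rTensor M ((h.restrictScalars R).rTensor M z)) h1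
    simp only [map_zero] at this
    rwa [← LinearMap.rTensor_comp_apply, ← LinearMap.rTensor_comp_apply, LinearMap.comp_assoc, key, LinearMap.rTensor_smul,
      LinearMap.rTensor_id] at this
  rw [mul_smul] at h2
  exact hreg2 x (hreg2 _ h2)

end Groth.Agent.FinDescent
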