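import Groth.Agent.FinDescent.Flat

/-!
Flatness descends along finite injective maps of Noetherian rings.
-/

set_option autoImplicit false
set_option linter.style.haveILetI false

universe u

open TensorProduct

namespace Groth.Agent.FinDescent

/-- Gluing relative to a base ring. -/
theorem flat_quotient_inf (R : Type u) [CommRing R] (I J : Ideal R) (M : Type u) [AddCommGroup M] [Module R M]
    (hI : Module.Flat (R ⧸ I) ((R ⧸ I) ⊗[R] M)) (hJ : Module.Flat (R ⧸ J) ((R ⧸ J) ⊗[R] M)) :
    Module.Flat (R ⧸ I ⊓ J) ((R ⧸ I ⊓ J) ⊗[R] M) := by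
  let S := R ⧸ I ⊓ J
  let I' := I.map (Ideal.Quotient.mk (I ⊓ J))
  let J' := J.map (Ideal.Quotient.mk (I ⊓ J))
  have tr : ∀ K : Ideal R, I ⊓ J ≤ K → Module.Flat (R ⧸ K) ((R ⧸ K) ⊗[R] M) →
      Module.Flat (S ⧸ K.map (Ideal.Quotient.mk (I ⊓ J))) ((S ⧸ K.map (Ideal.Quotient.mk (I ⊓ J))) ⊗[S] (S ⊗[R] M)) := by
    intro K hle hK
    let S' := S ⧸ K.map (Ideal.Quotient.mk (I ⊓ J))
    letI : Algebra (R ⧸ K) S' := (Ideal.quotientMap _ (Ideal.Quotient.mk (I ⊓ J)) Ideal.le_comap_map).toAlgebra
    haveI : IsScalarTower R (R ⧸ K) S' := IsScalarTower.of_algebraMap_eq fun _ => rfl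
    haveI := flat_change R (R ⧸ K) S' M hK
    exact Module.Flat.of_linearEquiv (AlgebraTensorModule.cancelBaseChange R S S' S' M)
  haveI := tr I inf_le_left hI
  haveI := tr J inf_le_right hJ
  refine flat_of_inf_eq_bot S I' J' ?_ (S ⊗[R] M)
  rw [eq_bot_iff]
  intro x hx
  obtain ⟨x, rfl⟩ := Ideal.Quotient.mk_surjective x
  have h : ∀ K : Ideal R, I ⊓ J ≤ K → Ideal.Quotient.mk (I ⊓ J) x ∈ K.map (Ideal.Quotient.mk (I ⊓ J)) → x ∈ K := by
    intro K hle hxK
    have : x ∈ (K.map (Ideal.Quotient.mk (I ⊓ J))).comap (Ideal.Quotient.mk (I ⊓ J)) := hxK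
    rwa [Ideal.comap_map_of_surjective' _ Ideal.Quotient.mk_surjective, Ideal.mk_ker, sup_eq_left.2 hle] at this
  exact Ideal.Quotient.eq_zero_iff_mem.2 ⟨h I inf_le_left hx.1, h J inf_le_right hx.2⟩

/-- All finite algebras with flat base change force flatness modulo their kernel. -/
def Good (R : Type u) [CommRing R] (M : Type u) [AddCommGroup M] [Module R M] (I : Ideal R) : Prop :=
  ∀ (T : Type u) [CommRing T] [Algebra R T] [Module.Finite R T], RingHom.ker (algebraMap R T) = I →
    Module.Flat T (T ⊗[R] M) → Module.Flat (R ⧸ I) ((R ⧸ I) ⊗[R] M)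

theorem good (R : Type u) [CommRing R] [IsNoetherianRing R] (M : Type u) [AddCommGroup M] [Module R M]
    (I : Ideal R) : Good R M I := by
  refine WellFoundedGT.induction (motive := Good R M) I fun I ih => ?_
  intro T _ _ _ hker hflat
  haveI := hflat
  let S := R ⧸ I
  letI : Algebra S T := (Ideal.Quotient.lift I (algebraMap R T) fun a ha => hker.ge ha).toAlgebra
  haveI : IsScalarTower R S T := IsScalarTower.of_algebraMap_eq fun _ => rfl
  haveI : Module.Finite S T := Module.Finite.of_restrictScalars_finite R S T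
  have hinjS : Function.Injective (algebraMap S T) := RingHom.lift_injective_of_ker_le_ideal _ _ hker.le
  have hST : Module.Flat T (T ⊗[S] (S ⊗[R] M)) := Module.Flat.of_linearEquiv
    (AlgebraTensorModule.cancelBaseChange R S T T M)
  -- prime quotients
  have hprime : ∀ p : Ideal R, p.IsPrime → I < p → Module.Flat (R ⧸ p) ((R ⧸ p) ⊗[R] M) := by
    intro p hp hlt
    haveI : Algebra.IsIntegral R T := inferInstance
    obtain ⟨Q, -, hQ, hQp⟩ := Ideal.exists_ideal_over_prime_of_isIntegral p (⊥ : Ideal T) (by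
      rw [← RingHom.ker_eq_comap_bot, hker]; exact hlt.le)
    refine ih p hlt (T ⧸ Q) ?_ (flat_change R T (T ⧸ Q) M inferInstance)
    rw [IsScalarTower.algebraMap_eq R T (T ⧸ Q), ← RingHom.comap_ker, Ideal.Quotient.algebraMap_eq, Ideal.mk_ker, hQp]
  by_cases hrad : I.radical = I
  · by_cases hpr : I.IsPrime
    · haveI := hpr
      obtain ⟨Q, -, hQ, hQp⟩ := Ideal.exists_ideal_over_prime_of_isIntegral I (⊥ : Ideal T) (by
        rw [← RingHom.ker_eq_comap_bot, hker])
      haveI := hQ
      have hinjQ : Function.Injective (algebraMap S (T ⧸ Q)) := by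
        rw [RingHom.injective_iff_ker_eq_bot, eq_bot_iff]
        intro x hx
        obtain ⟨x, rfl⟩ := Ideal.Quotient.mk_surjective x
        refine Ideal.Quotient.eq_zero_iff_mem.2 ?_
        have key : algebraMap R T x ∈ Q → x ∈ I := fun h => by rw [← hQp]; exact h
        refine key ?_
        exact Ideal.Quotient.eq_zero_iff_mem.1 (show Ideal.Quotient.mk Q (algebraMap R T x) = 0 from hx)
      haveI : Module.Finite S (T ⧸ Q) := Module.Finite.trans T (T ⧸ Q)
      haveI := flat_change S T (T ⧸ Q) (S ⊗[R] M) hST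
      refine flat_domain_step S (T ⧸ Q) hinjQ (S ⊗[R] M) ?_
      intro T' _ _ _ hne hflat'
      haveI := hflat'
      letI : Algebra R T' := ((algebraMap S T').comp (algebraMap R S)).toAlgebra
      haveI : IsScalarTower R S T' := IsScalarTower.of_algebraMap_eq fun _ => rfl
      haveI : Module.Finite R T' := Module.Finite.trans S T'
      have hk : RingHom.ker (algebraMap R T') = (RingHom.ker (algebraMap S T')).comap (Ideal.Quotient.mk I) :=
        (RingHom.comap_ker _ _).symm
      have hlt : I < RingHom.ker (algebraMap R T') := by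
        refine lt_of_le_of_ne ?_ fun h => hne ?_
        · rw [hk]
          exact Ideal.mk_ker.ge.trans (Ideal.comap_mono bot_le)
        · rw [← Ideal.map_comap_of_surjective _ Ideal.Quotient.mk_surjective (RingHom.ker (algebraMap S T')), ← hk, ← h,
            Ideal.map_quotient_self]
      have h1 : Module.Flat T' (T' ⊗[R] M) := Module.Flat.of_linearEquiv
        (AlgebraTensorModule.cancelBaseChange R S T' T' M).symm
      have h2 := ih _ hlt T' rfl h1
      let J' := RingHom.ker (algebraMap R T')
      let K' := RingHom.ker (algebraMap S T')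
      letI : Algebra (R ⧸ J') (S ⧸ K') :=
        (Ideal.quotientMap K' (Ideal.Quotient.mk I) (show J' ≤ _ from hk.le)).toAlgebra
      haveI : IsScalarTower R (R ⧸ J') (S ⧸ K') := IsScalarTower.of_algebraMap_eq fun _ => rfl
      haveI := flat_change R (R ⧸ J') (S ⧸ K') M h2
      exact Module.Flat.of_linearEquiv (AlgebraTensorModule.cancelBaseChange R S (S ⧸ K') (S ⧸ K') M)
    · -- reduced, not a prime
      have hgl : ∀ s : Finset (Ideal R), (∀ p ∈ s, p.IsPrime ∧ I < p) →
          Module.Flat (R ⧸ s.inf id) ((R ⧸ s.inf id) ⊗[R] M) := by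
        classical
        intro s
        induction s using Finset.induction with
        | empty =>
          intro _
          haveI : Subsingleton (R ⧸ (⊤ : Ideal R)) := Ideal.Quotient.subsingleton_iff.2 rfl
          rw [Finset.inf_empty]
          haveI : Subsingleton ((R ⧸ (⊤ : Ideal R)) ⊗[R] M) := Module.subsingleton (R ⧸ (⊤ : Ideal R)) _
          exact Module.Flat.of_free
        | insert p s hp hs =>
          intro h
          rw [Finset.inf_insert, id]
          exact flat_quotient_inf R _ _ M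
            (hprime p (h p (Finset.mem_insert_self _ _)).1 (h p (Finset.mem_insert_self _ _)).2)
            (hs fun q hq => h q (Finset.mem_insert_of_mem hq))
      have hfin := Ideal.finite_minimalPrimes_of_isNoetherianRing R I
      have h := hgl hfin.toFinset fun p hp => by
        rw [Set.Finite.mem_toFinset] at hp
        exact ⟨hp.1.1, lt_of_le_of_ne hp.1.2 fun h => hpr (h ▸ hp.1.1)⟩
      rwa [show hfin.toFinset.inf id = I by
        rw [Finset.inf_id_eq_sInf, Set.Finite.coe_toFinset, Ideal.sInf_minimalPrimes, hrad]] at h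
  · -- a nilpotent thickening
    have hlt : I < I.radical := lt_of_le_of_ne Ideal.le_radical (Ne.symm hrad)
    let a : Ideal T := (⊥ : Ideal T).radical
    have hk : RingHom.ker (algebraMap R (T ⧸ a)) = I.radical := by
      rw [IsScalarTower.algebraMap_eq R T (T ⧸ a), ← RingHom.comap_ker, Ideal.Quotient.algebraMap_eq, Ideal.mk_ker,
        Ideal.comap_radical, ← RingHom.ker_eq_comap_bot, hker]
    have h2 := ih _ hlt (T ⧸ a) hk (flat_change R T (T ⧸ a) M inferInstance)
    let N := I.radical.map (Ideal.Quotient.mk I)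
    have hN : IsNilpotent N := by
      obtain ⟨k, hk'⟩ := IsNoetherianRing.isNilpotent_nilradical S
      refine ⟨k, le_bot_iff.1 ((Ideal.pow_right_mono ?_ k).trans hk'.le)⟩
      rw [show nilradical S = (⊥ : Ideal S).radical from rfl, Ideal.map_le_iff_le_comap, Ideal.comap_radical]
      exact Ideal.radical_mono (Ideal.mk_ker (I := I)).ge
    letI : Algebra (R ⧸ I.radical) (S ⧸ N) := (Ideal.quotientMap N (Ideal.Quotient.mk I) Ideal.le_comap_map).toAlgebra
    haveI : IsScalarTower R (R ⧸ I.radical) (S ⧸ N) := IsScalarTower.of_algebraMap_eq fun _ => rfl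
    haveI := flat_change R (R ⧸ I.radical) (S ⧸ N) M h2
    haveI : Module.Flat (S ⧸ N) ((S ⧸ N) ⊗[S] (S ⊗[R] M)) :=
      Module.Flat.of_linearEquiv (AlgebraTensorModule.cancelBaseChange R S (S ⧸ N) (S ⧸ N) M)
    exact MLMod.flat_of_nilpotent_of_injective T N (S ⊗[R] M) hinjS hN

theorem flat_of_finite_injective (R T : Type u) [CommRing R] [IsNoetherianRing R] [CommRing T] [Algebra R T]
    [Module.Finite R T] (hinj : Function.Injective (algebraMap R T)) (M : Type u) [AddCommGroup M] [Module R M]
    [Module.Flat T (T ⊗[R] M)] : Module.Flat R M := by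
  have h := good R M ⊥ T ((RingHom.injective_iff_ker_eq_bot _).1 hinj) inferInstance
  letI : Algebra (R ⧸ (⊥ : Ideal R)) R :=
    (Ideal.Quotient.lift ⊥ (RingHom.id R) fun a ha => (Ideal.mem_bot.1 ha)).toAlgebra
  haveI : IsScalarTower R (R ⧸ (⊥ : Ideal R)) R := IsScalarTower.of_algebraMap_eq fun _ => rfl
  exact flat_rid R M (flat_change R (R ⧸ (⊥ : Ideal R)) R M h)

end Groth.Agent.FinDescent
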