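import Groth.Agent.FinDescent.Main

/-!
The domain step for descent of projectivity along finite injective maps.
-/

set_option autoImplicit false
set_option linter.style.haveILetI false

universe u

open TensorProduct

namespace Groth.Agent.FinDescent

theorem projective_change (R : Type u) [CommRing R] (A B : Type u) [CommRing A] [CommRing B] [Algebra R A] [Algebra R B]
    [Algebra A B] [IsScalarTower R A B] (M : Type u) [AddCommGroup M] [Module R M]
    (h : Module.Projective A (A ⊗[R] M)) : Module.Projective B (B ⊗[R] M) := by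
  haveI := h
  exact Module.Projective.of_equiv (TensorProduct.AlgebraTensorModule.cancelBaseChange R A B B M)

/-- A module which is projective modulo `c`, on which `c` is regular and `c` times the identity factors
through a free module is projective. -/
theorem projective_of_factor (R : Type u) [CommRing R] (c : R) (hc : c ∈ nonZeroDivisors R) (M : Type u) [AddCommGroup M]
    [Module R M] (hM : ∀ m : M, c • m = 0 → m = 0)
    [Module.Projective (R ⧸ Ideal.span {c}) ((R ⧸ Ideal.span {c}) ⊗[R] M)]
    {F : Type u} [AddCommGroup F] [Module R F] [Module.Projective R F] (a : M →ₗ[R] F) (b : F →ₗ[R] M)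
    (hab : ∀ m, b (a m) = c • m) : Module.Projective R M := by
  classical
  let p : (M →₀ R) →ₗ[R] M := Finsupp.linearCombination R id
  have hp : Function.Surjective p := fun m => ⟨Finsupp.single m 1, (Finsupp.linearCombination_single R (v := id) (1 : R) m).trans (one_smul R m)⟩
  obtain ⟨b', hb'⟩ := Module.projective_lifting_property p b hp
  let σ : M →ₗ[R] (M →₀ R) := b'.comp a
  have hσ : ∀ m, p (σ m) = c • m := fun m => (LinearMap.congr_fun hb' (a m)).trans (hab m)
  let K : Submodule R (M →₀ R) := LinearMap.ker p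
  letI : AddCommGroup K := Submodule.addCommGroup K
  let δ : (M →₀ R) →ₗ[R] K := (c • LinearMap.id - σ.comp p).codRestrict K fun x => by
    rw [LinearMap.mem_ker, LinearMap.sub_apply, map_sub, LinearMap.smul_apply, LinearMap.id_apply, map_smul,
      LinearMap.comp_apply, hσ, sub_self]
  have hδ : ∀ k : K, δ k = c • k := fun k => Subtype.ext (by
    change c • (k : (M →₀ R)) - σ (p k) = c • (k : (M →₀ R))
    rw [show p k = 0 from k.2, map_zero, sub_zero])
  let A := R ⧸ Ideal.span {c}
  let p' := p.baseChange A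
  obtain ⟨s, hs⟩ := Module.projective_lifting_property p' LinearMap.id (LinearMap.lTensor_surjective A hp)
  let η : (M →₀ R) →ₗ[R] A ⊗[R] (M →₀ R) := TensorProduct.mk R A (M →₀ R) 1
  have hη : ∀ x, η x = 0 → ∃ v, c • v = x := fun x hx => by
    have h := congrArg (TensorProduct.quotTensorEquivQuotSMul (M →₀ R) (Ideal.span {c})) hx
    rw [map_zero, TensorProduct.mk_apply, ← map_one (Ideal.Quotient.mk (Ideal.span {c})),
      TensorProduct.quotTensorEquivQuotSMul_mk_tmul, one_smul, Submodule.Quotient.mk_eq_zero,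
      Submodule.ideal_span_singleton_smul, Submodule.mem_smul_pointwise_iff_exists] at h
    obtain ⟨v, -, hv⟩ := h
    exact ⟨v, hv⟩
  let ζ : (M →₀ R) →ₗ[R] A ⊗[R] (M →₀ R) := ((LinearMap.id - s.comp p').restrictScalars R).comp η
  have hζ : ∀ m : M, ∃ k : K, η k = ζ (Finsupp.single m 1) := fun m => by
    have h0 : (p.lTensor A) (ζ (Finsupp.single m 1)) = 0 := by
      change p' ((LinearMap.id - s.comp p' : A ⊗[R] (M →₀ R) →ₗ[A] A ⊗[R] (M →₀ R)) (η (Finsupp.single m 1))) = 0
      rw [LinearMap.sub_apply, map_sub, LinearMap.id_apply, LinearMap.comp_apply]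
      rw [show p' (s (p' _)) = p' _ from LinearMap.congr_fun hs _, sub_self]
    obtain ⟨w, hw⟩ := ((lTensor_exact A (f := K.subtype) (g := p) (by rw [LinearMap.exact_iff, Submodule.range_subtype]) hp) _).1 h0
    obtain ⟨k, rfl⟩ := TensorProduct.mk_surjective R K A Ideal.Quotient.mk_surjective w
    exact ⟨k, hw⟩
  choose k₀ hk₀ using hζ
  let φ : (M →₀ R) →ₗ[R] K := Finsupp.linearCombination R k₀
  have hφ : η.comp (K.subtype.comp φ) = ζ := Finsupp.lhom_ext fun m r => by
    rw [← mul_one r, ← smul_eq_mul, ← Finsupp.smul_single, map_smul, map_smul, LinearMap.comp_apply, LinearMap.comp_apply]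
    congr 1
    rw [show φ (Finsupp.single m 1) = k₀ m from (Finsupp.linearCombination_single R (v := k₀) (1 : R) m).trans (one_smul R _)]
    exact hk₀ m
  have hfix : ∀ k : K, ∃ g : K, φ k = k + c • g := fun k => by
    have h0 : η ((φ k : (M →₀ R)) - (k : (M →₀ R))) = 0 := by
      rw [map_sub, show η (φ k : (M →₀ R)) = ζ k from LinearMap.congr_fun hφ k]
      change (LinearMap.id - s.comp p' : A ⊗[R] (M →₀ R) →ₗ[A] A ⊗[R] (M →₀ R)) (η k) - η k = 0
      rw [LinearMap.sub_apply, LinearMap.id_apply, LinearMap.comp_apply]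
      rw [show p' (η k) = 0 from by
        change (p.lTensor A) ((1 : A) ⊗ₜ[R] (k : (M →₀ R))) = 0
        rw [LinearMap.lTensor_tmul, show p k = 0 from k.2, TensorProduct.tmul_zero], map_zero, sub_zero, sub_self]
    obtain ⟨v, hv⟩ := hη _ h0
    refine ⟨⟨v, LinearMap.mem_ker.2 (hM _ ?_)⟩, Subtype.ext ?_⟩
    · rw [← map_smul, hv, map_sub, show p (φ k : (M →₀ R)) = 0 from (φ k).2, show p k = 0 from k.2, sub_zero]
    · change (φ k : (M →₀ R)) = (k : (M →₀ R)) + c • v
      rw [hv, add_sub_cancel]
  choose g hg using hfix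
  have hreg : ∀ x y : K, c • x = c • y → x = y := fun x y h => by
    refine Subtype.ext (Finsupp.ext fun m => ?_)
    have h1 : c * (x : (M →₀ R)) m = c * (y : (M →₀ R)) m := by
      have := congrArg (fun z : K => (z : (M →₀ R)) m) h
      simpa [Finsupp.smul_apply, smul_eq_mul] using this
    exact (mul_cancel_left_mem_nonZeroDivisors hc).1 h1
  let γ : K →ₗ[R] K :=
    { toFun := g
      map_add' := fun x y => hreg _ _ (add_left_cancel (a := x + y) (by
        rw [← hg, smul_add, add_add_add_comm, ← hg, ← hg, ← map_add φ, Submodule.coe_add]))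
      map_smul' := fun r x => hreg _ _ (add_left_cancel (a := r • x) (by
        rw [← hg, RingHom.id_apply, smul_comm c r, ← smul_add, ← hg, ← map_smul φ, Submodule.coe_smul])) }
  let ρ : (M →₀ R) →ₗ[R] K := φ - γ.comp δ
  have hρ : ∀ k : K, ρ k = k := fun k => by
    change φ k - γ (δ k) = k
    rw [hδ, map_smul, hg]
    change k + c • g k - c • g k = k
    rw [add_sub_cancel_right]
  let q : (M →₀ R) →ₗ[R] (M →₀ R) := LinearMap.id - K.subtype.comp ρ
  have hq : LinearMap.ker p ≤ LinearMap.ker q := fun x hx => by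
    change x - (ρ x : (M →₀ R)) = 0
    rw [show ρ x = ⟨x, hx⟩ from hρ ⟨x, hx⟩, sub_self]
  let sec : M →ₗ[R] (M →₀ R) := ((LinearMap.ker p).liftQ q hq).comp (p.quotKerEquivOfSurjective hp).symm.toLinearMap
  refine Module.Projective.of_split sec p (LinearMap.ext fun m => ?_)
  obtain ⟨x, rfl⟩ := hp m
  rw [LinearMap.comp_apply, LinearMap.id_apply]
  change p (((LinearMap.ker p).liftQ q hq) ((p.quotKerEquivOfSurjective hp).symm (p x))) = p x
  rw [← LinearMap.quotKerEquivOfSurjective_apply_mk p hp x, LinearEquiv.symm_apply_apply, Submodule.liftQ_apply]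
  change p (x - (ρ x : (M →₀ R))) = _
  rw [map_sub, show p (ρ x : (M →₀ R)) = 0 from (ρ x).2, sub_zero, LinearMap.quotKerEquivOfSurjective_apply_mk]

/-- The domain step. -/
theorem projective_domain_step (R T : Type u) [CommRing R] [IsDomain R] [CommRing T] [IsDomain T] [Algebra R T]
    [Module.Finite R T] (hinj : Function.Injective (algebraMap R T)) (M : Type u) [AddCommGroup M] [Module R M]
    [Module.Flat R M] [Module.Projective T (T ⊗[R] M)]
    (hyp : ∀ (T' : Type u) [CommRing T'] [Algebra R T'] [Module.Finite R T'],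
      RingHom.ker (algebraMap R T') ≠ ⊥ → Module.Projective T' (T' ⊗[R] M) →
      Module.Projective (R ⧸ RingHom.ker (algebraMap R T')) ((R ⧸ RingHom.ker (algebraMap R T')) ⊗[R] M)) :
    Module.Projective R M := by
  classical
  obtain ⟨f, n, π, ρ, ι, hf, hπ, hιρ⟩ := exists_factor R T hinj
  let c := f * f
  have hc : c ∈ nonZeroDivisors R := mem_nonZeroDivisors_of_ne_zero (mul_ne_zero hf hf)
  let a₀ : Ideal T := Ideal.span {algebraMap R T (c * f)}
  let T' := T ⧸ a₀
  let J := RingHom.ker (algebraMap R T')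
  have hJ : ∀ x ∈ J, x ∈ Ideal.span {c} := fun x hx => by
    change algebraMap R T' x = 0 at hx
    rw [IsScalarTower.algebraMap_apply R T T', Ideal.Quotient.algebraMap_eq, Ideal.Quotient.eq_zero_iff_mem,
      Ideal.mem_span_singleton'] at hx
    obtain ⟨s, hs⟩ := hx
    have h1 : π ((c * f) • s) = π (x • (1 : T)) := by
      congr 1
      rw [Algebra.smul_def, Algebra.smul_def, mul_one, ← hs, mul_comm]
    rw [map_smul, map_smul, hπ, smul_eq_mul, smul_eq_mul] at h1
    exact Ideal.mem_span_singleton'.2 ⟨π s, mul_left_cancel₀ hf (by linear_combination h1)⟩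
  have hJ0 : J ≠ ⊥ := by
    refine Submodule.ne_bot_iff _ |>.2 ⟨c * f, ?_, mul_ne_zero (mul_ne_zero hf hf) hf⟩
    change algebraMap R T' (c * f) = 0
    rw [IsScalarTower.algebraMap_apply R T T', Ideal.Quotient.algebraMap_eq, Ideal.Quotient.eq_zero_iff_mem]
    exact Ideal.mem_span_singleton_self _
  have hMJ := hyp T' hJ0 (projective_change R T T' M inferInstance)
  haveI : Module.Projective (R ⧸ Ideal.span {c}) ((R ⧸ Ideal.span {c}) ⊗[R] M) := by
    letI : Algebra (R ⧸ J) (R ⧸ Ideal.span {c}) := (Ideal.Quotient.factor hJ).toAlgebra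
    haveI : IsScalarTower R (R ⧸ J) (R ⧸ Ideal.span {c}) := IsScalarTower.of_algebraMap_eq fun _ => rfl
    exact projective_change R (R ⧸ J) _ M hMJ
  have hM : ∀ m : M, c • m = 0 → m = 0 := fun m hm => by
    have hreg : IsSMulRegular M c :=
      (Module.Flat.isSMulRegular_of_isRegular (M := M) (IsRegular.of_ne_zero (mul_ne_zero hf hf)))
    exact hreg (hm.trans (smul_zero c).symm)
  let P := T ⊗[R] M
  let q : (P →₀ T) →ₗ[T] P := Finsupp.linearCombination T id
  have hq : Function.Surjective q := fun m => ⟨Finsupp.single m 1, by simp [q]⟩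
  obtain ⟨s, hs⟩ := Module.projective_lifting_property q LinearMap.id hq
  let a : M →ₗ[R] (P →₀ Fin n → R) :=
    (Finsupp.mapRange.linearMap ρ).comp ((s.restrictScalars R).comp (TensorProduct.mk R T M 1))
  let b : (P →₀ Fin n → R) →ₗ[R] M :=
    ((TensorProduct.lid R M).toLinearMap.comp (π.rTensor M)).comp
      ((q.restrictScalars R).comp (Finsupp.mapRange.linearMap ι))
  refine projective_of_factor R c hc M hM a b fun m => ?_
  change TensorProduct.lid R M (π.rTensor M (q (Finsupp.mapRange.linearMap ι (Finsupp.mapRange.linearMap ρ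
    (s ((1 : T) ⊗ₜ[R] m)))))) = c • m
  rw [← LinearMap.comp_apply (Finsupp.mapRange.linearMap ι), ← Finsupp.mapRange.linearMap_comp, hιρ]
  rw [show Finsupp.mapRange.linearMap (f • (LinearMap.id : T →ₗ[R] T)) (s ((1 : T) ⊗ₜ[R] m)) =
      algebraMap R T f • s ((1 : T) ⊗ₜ[R] m) from Finsupp.ext fun i => by simp [Algebra.smul_def]]
  rw [map_smul q, show q (s ((1 : T) ⊗ₜ[R] m)) = (1 : T) ⊗ₜ[R] m from LinearMap.congr_fun hs _, algebraMap_smul,
    map_smul, map_smul, LinearMap.rTensor_tmul, TensorProduct.lid_tmul, hπ, smul_smul]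

end Groth.Agent.FinDescent
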